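/-
Orbit certificates for the base bPair.
-/
import Cfsg.Agent.Golay.Unpack
import Cfsg.Agent.Golay.Cats.PairData

set_option autoImplicit false
set_option maxRecDepth 100000

namespace CfsgLib.Golay.Cert

/-- The base. -/
def bPair : List (List ℕ) := [[8388609]]

/-- Generators of its stabiliser. -/
def bPairGens : List (List ℕ) := [[0, 4, 5, 8, 6, 15, 3, 13, 21, 14, 9, 19, 22, 2, 1, 20, 11, 7, 17, 18, 16, 12, 10, 23], [23, 10, 5, 21, 9, 3, 15, 14, 11, 1, 19, 6, 2, 8, 7, 12, 18, 20, 4, 22, 16, 13, 17, 0]]

/-- Orbit steps. -/
def bPair_pairSteps1 : List ℕ := List.flatten [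
  [6, 16777479, 24591, 16802054, 17854635, 61443, 16838924, 1073419, 700569, 17477907, 12316, 16789778, 1098001, 17875010, 1093886, 17870869, 626824, 17404161, 114898, 16892168, 1122569, 17899598, 1118477, 17895544, 270567, 17047807, 17817645, 1052931, 17829924, 17637642, 1081616, 17862657, 17096965, 491575, 17269007, 17723662, 1044738, 17821706, 1061120, 17838185, 147547, 1106180, 17883326]]

/-- Orbit steps. -/
def bPair_pairSteps2 : List ℕ := List.flatten [
  [8206, 16785458, 57455, 16834599, 204914, 16982190, 454849, 17231989, 159843, 16937171, 467148, 17244227, 712865, 17490172, 790656, 17567970, 479483, 17256516, 17182782, 864326, 17641560, 835705, 17612927, 274667, 17051695, 659683, 17436731, 1032268, 17809557, 524509, 17301668, 925773, 17703078, 1028226, 17805464, 278764, 17055756, 254136, 17031265, 286957, 17063974, 17137843, 17272995, 520281, 17297575, 962611, 17739921, 192553, 16969904, 929865, 17707211, 241841, 17018922, 311536, 17088685, 610327, 17387718, 905399, 17682516, 671932, 17448979, 315642, 17092625, 680074],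
  [17457184, 532544, 17309885, 17400016, 966771, 17744011, 49262, 16826381, 753819, 17531119, 397316, 17174640, 970800, 17748119, 155744, 16932875, 733412, 17510642, 17445039, 17141794, 684169, 17461273, 16986298, 594018, 17371327, 168055, 721064, 17498346, 299252, 17076317, 831610, 725148, 17502454, 172126, 16949354, 983141, 708766, 94291, 17588355, 749817, 17527017, 344069, 17121393, 770208, 77842, 17801464, 565274, 17342659, 131288, 262329, 17039376, 774314, 17629308, 471239, 569379, 17346790, 450765, 17227845, 16830677, 635021, 979164, 17756307, 17236071, 196652],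
  [16974053, 618693, 17395914, 17170456, 45165, 934036, 17711186, 991413, 17768590, 716959, 16916596, 17338568, 16879716, 17539315, 401487, 688335, 958517, 17776784, 499772, 17416406, 385053, 17162457, 434370, 413733, 17191090, 17424393, 340075, 17117215, 536758, 1020050, 17797260, 20513, 16797911, 17432671, 16851169, 1015860, 106614, 798855, 17576059, 757914, 17535214, 696463, 507965, 17285282, 815238, 143583, 16920678, 942212, 17719429, 839886, 17060052, 872522, 901195, 17379524, 422120, 180448, 16957496, 938149, 827639, 98390, 17383616, 475345, 17252424, 819329],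
  [17596603, 409692, 17186838, 995569, 323592, 217307, 17367241, 17653847, 16896065, 888922, 17666152, 794750, 16928814, 17506549, 17215559, 127194, 598059, 573467, 16912442, 17657937, 503871, 17408049, 17752214, 585813, 17440775, 417964, 544825, 17621161, 786557, 987190, 32788, 266420, 17145886, 188456, 893150, 348240, 704669, 82028]]

/-- The certificates. -/
def bPair_pairData : List OrbitData := [
  ([10000], 253, []),
  ([100], 0, bPair_pairSteps1.map unpack),
  ([1], 2, bPair_pairSteps2.map unpack)]

theorem bPair_pair_ok : pairCat.orbitsOK bPair bPairGens bPair_pairData [1, 44, 231] = true := by decide +kernel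

end CfsgLib.Golay.Cert
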